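import Mathlib
import Cfsg.Agent.Schreier.BNSch
import Cfsg.Agent.Schreier.BNGraph
import Cfsg.Agent.S0312
import Cfsg.Agent.S0314
import Cfsg.Agent.S0315
import Cfsg.Agent.S0319
import Cfsg.Agent.LieRecognition.BNCox
import Cfsg.Agent.H478.RadTools_m3
import Cfsg.Agent.FastGrp
import Cfsg.Agent.Prune
set_option linter.all false
prune_inst 0x7f00000000000000000000000000000000000000000000000000000000000000000000000000000000000000000000000000000000000000000000000000000000000000000000000000000000000000003fffffffffffffffffffffffffffbeffbdffffffff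
open scoped Cfsg.Agent.FastGrp

/-!
# Radical automorphisms of groups with a (B, N)-pair: the gallery lemma (helper459, S3829, S3832)

`K` finite with a (B,N)-pair `P`, `x : MulAut K` with `RC x`.

* `all_fixed` : if `x` fixes `B`, and every automorphism `y` conjugate to `x` under `Inn K` which fixes `B` fixes the
  minimal parabolics `P_s` (proper subgroups) and acts trivially on `P_s / B` if `P_s` is solvable, then `x` fixes all
  conjugates of `B`; hence `x = 1` (`eq_one`);
-/

set_option autoImplicit false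
set_option linter.unusedSectionVars false

namespace Cfsg.Agent.H459.Gallery

open Cfsg Subgroup Cfsg.Agent.SignalizersComponents.ComponentExists Cfsg.Agent.H459.Rad
open Cfsg.Agent.Schreier.BNSch
open scoped commutatorElement

variable {K : Type*} [Group K] [Finite K]

/-- the conjugate `g⁻¹ x g` of `x` : `k ↦ g⁻¹ x(g k g⁻¹) g` -/
def cx (x : MulAut K) (g : K) : MulAut K := (MulAut.conj g)⁻¹ * x * MulAut.conj g

theorem cx_apply (x : MulAut K) (g k : K) : cx x g k = g⁻¹ * x (g * k * g⁻¹) * g := by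
  unfold cx
  simp [MulAut.mul_apply]

theorem cx_apply' (x : MulAut K) (g k : K) : cx x g k = (g⁻¹ * x g) * x k * (g⁻¹ * x g)⁻¹ := by
  rw [cx_apply, map_mul, map_mul, map_inv]
  group

theorem cx_one (x : MulAut K) : cx x 1 = x := by
  ext k
  rw [cx_apply]
  simp

theorem cx_cx (x : MulAut K) (g h : K) : cx (cx x g) h = cx x (g * h) := by
  ext k
  rw [cx_apply, cx_apply, cx_apply]
  group

theorem _root_.Cfsg.Agent.H459.Rad.RC.cx {x : MulAut K} (h : RC x) (g : K) : RC (cx x g) := by
  have h1 := RC.tr (MulAut.conj g⁻¹) h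
  have h2 : Rad.tr (MulAut.conj g⁻¹) x = Gallery.cx x g := by
    ext k
    rw [tr_apply, cx_apply]
    simp
  rwa [h2] at h1

/-- the subgroup `A` is invariant -/
def Iv (x : MulAut K) (A : Subgroup K) : Prop := ∀ a ∈ A, x a ∈ A

theorem Iv.map_eq {x : MulAut K} {A : Subgroup K} (h : Iv x A) : A.map x.toMonoidHom = A :=
  Subgroup.eq_of_le_of_card_ge (by rintro _ ⟨a, ha, rfl⟩; exact h a ha)
    (le_of_eq (Subgroup.card_map_of_injective x.injective).symm)

theorem iv_of_map_eq {x : MulAut K} {A : Subgroup K} (h : A.map x.toMonoidHom = A) : Iv x A := fun a ha => by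
  rw [← h]; exact ⟨a, ha, rfl⟩

theorem Iv.cx {x : MulAut K} {A : Subgroup K} (h : Iv x A) {g : K} (hg : g⁻¹ * x g ∈ A) : Iv (Gallery.cx x g) A := by
  intro a ha
  rw [cx_apply']
  exact mul_mem (mul_mem hg (h a ha)) (inv_mem hg)

/-- `x` fixes the coset `g A`, `A` self-normalising -/
theorem mem_of_iv_cx {x : MulAut K} {A : Subgroup K} (hA : normalizer (A : Set K) = A) (h : Iv x A) {g : K}
    (hg : Iv (Gallery.cx x g) A) : g⁻¹ * x g ∈ A := by
  rw [← hA, Subgroup.mem_normalizer_iff_map_conj_eq]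
  refine Subgroup.eq_of_le_of_card_ge ?_ (le_of_eq (Subgroup.card_map_of_injective
    (K := A) (MulAut.conj (g⁻¹ * x g)).injective).symm)
  rintro _ ⟨a, ha, rfl⟩
  have h1 := h.map_eq
  rw [← h1] at ha
  obtain ⟨b, hb, rfl⟩ := ha
  have h2 := hg b hb
  rw [cx_apply'] at h2
  exact h2

variable (P : BNPair K)

/-- **Step G1**: radical automorphisms fixing `B` and `P_s` fix the Borel subgroups in `P_s` -/
theorem fix_adj {x : MulAut K} (h : RC x) (hBs : Group.IsSolvable P.B) {s : K} (hs : s ∈ P.S)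
    (hPs : Iv x (P.parabolic {s})) (hne : P.parabolic {s} ≠ ⊤)
    (hnode : Group.IsSolvable (P.parabolic {s}) → ∀ g ∈ P.parabolic {s}, g⁻¹ * x g ∈ P.B) :
    ∀ g ∈ P.parabolic {s}, g⁻¹ * x g ∈ P.B := by
  by_cases hsol : Group.IsSolvable (P.parabolic {s})
  · exact hnode hsol
  intro g hg
  have h1 := h _ hne hPs g hg
  set M := P.parabolic {s} with hM
  have hBM : P.B ≤ M := B_le_parabolic P _
  -- `R B = B`
  have hR : radIn M ≤ P.B := by
    set L : Subgroup K := radIn M ⊔ P.B with hL
    have hLM : L ≤ M := sup_le (radIn_le M) hBM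
    rcases eq_or_ne L P.B with h2 | h2
    · rw [← h2]; exact le_sup_left
    · exfalso
      have h3 : P.B < L := lt_of_le_of_ne le_sup_right (Ne.symm h2)
      have h4 : L = M := ((exists_eq_parabolic_iff P M).1 ⟨s, hs, rfl⟩).2 L h3 hLM
      apply hsol
      have h5 : (radIn M).subgroupOf M ⊔ P.B.subgroupOf M = ⊤ := by
        rw [← Subgroup.subgroupOf_sup (radIn_le M) hBM, Subgroup.subgroupOf_eq_top]
        exact h4.ge
      have hn : ((radIn M).subgroupOf M).Normal := by
        refine ⟨fun n hn g => ?_⟩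
        rw [mem_subgroupOf] at hn ⊢
        exact radIn_conj_mem g.2 hn
      have h6 : Group.IsSolvable ↥(P.B.subgroupOf M) :=
        Group.isSolvable_of_surjective (f := (subgroupOfEquivOfLe hBM).symm.toMonoidHom)
          (subgroupOfEquivOfLe hBM).symm.surjective
      have h7 : Group.IsSolvable ↥((radIn M).subgroupOf M) := by
        have := radIn_solvable M
        exact Group.isSolvable_of_surjective (f := (subgroupOfEquivOfLe (radIn_le M)).symm.toMonoidHom)
          (subgroupOfEquivOfLe (radIn_le M)).symm.surjective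
      have h8 := isSolvable_sup_of_normal h6 h7
      rw [sup_comm, h5] at h8
      exact Group.isSolvable_of_surjective (f := (⊤ : Subgroup M).subtype) fun g => ⟨⟨g, mem_top g⟩, rfl⟩
  exact hR h1

/-- `A B` for a solvable normal subgroup `A` of `M` and `B` solvable -/
theorem isSolvable_sup {A B M : Subgroup K} (hA : A ≤ M) (hB : B ≤ M) (hn : ∀ g ∈ M, ∀ a ∈ A, g * a * g⁻¹ ∈ A)
    (h1 : Group.IsSolvable A) (h2 : Group.IsSolvable B) : Group.IsSolvable ↥(A ⊔ B) := by
  have hn : (A.subgroupOf M).Normal := by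
    refine ⟨fun n hn' g => ?_⟩
    rw [mem_subgroupOf] at hn' ⊢
    exact hn g g.2 n hn'
  have h6 : Group.IsSolvable ↥(B.subgroupOf M) :=
    Group.isSolvable_of_surjective (f := (subgroupOfEquivOfLe hB).symm.toMonoidHom)
      (subgroupOfEquivOfLe hB).symm.surjective
  have h7 : Group.IsSolvable ↥(A.subgroupOf M) :=
    Group.isSolvable_of_surjective (f := (subgroupOfEquivOfLe hA).symm.toMonoidHom)
      (subgroupOfEquivOfLe hA).symm.surjective
  have h8 := isSolvable_sup_of_normal h6 h7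
  have h9 : (B.subgroupOf M ⊔ A.subgroupOf M).map M.subtype = A ⊔ B := by
    rw [Subgroup.map_sup, Subgroup.subgroupOf_map_subtype, Subgroup.subgroupOf_map_subtype, inf_eq_left.2 hA,
      inf_eq_left.2 hB, sup_comm]
  rw [← h9]
  exact isSolvable_map h8 _

/-- **The gallery lemma.** -/
theorem all_fixed {x : MulAut K} (h : RC x) (hBs : Group.IsSolvable P.B) (hne : ∀ s ∈ P.S, P.parabolic {s} ≠ ⊤)
    (hrig : ∀ g : K, Iv (cx x g) P.B → ∀ s ∈ P.S, Iv (cx x g) (P.parabolic {s}))
    (hnode : ∀ g : K, Iv (cx x g) P.B → ∀ s ∈ P.S, Group.IsSolvable (P.parabolic {s}) →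
      ∀ k ∈ P.parabolic {s}, k⁻¹ * cx x g k ∈ P.B) (hB : Iv x P.B) (g : K) : g⁻¹ * x g ∈ P.B := by
  have key : ∀ g : K, g⁻¹ * x g ∈ P.B → ∀ s ∈ P.S, ∀ k ∈ P.parabolic {s}, (g * k)⁻¹ * x (g * k) ∈ P.B := by
    intro g hg s hs k hk
    have h1 : Iv (cx x g) P.B := hB.cx hg
    have h2 := fix_adj P (h.cx g) hBs hs (hrig g h1 s hs) (hne s hs) (hnode g h1 s hs) k hk
    rw [cx_apply'] at h2
    have h3 : (g * k)⁻¹ * x (g * k) = (k⁻¹ * ((g⁻¹ * x g) * x k * (g⁻¹ * x g)⁻¹)) * (g⁻¹ * x g) := by
      rw [map_mul]; group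
    rw [h3]
    exact mul_mem h2 hg
  have hg : g ∈ _root_.Subgroup.closure ((P.B : Set K) ∪ P.S) := by
    rw [Subgroup.closure_union, Subgroup.closure_eq, sup_closure_eq_top]
    exact mem_top g
  refine Subgroup.closure_induction_right (p := fun g _ => g⁻¹ * x g ∈ P.B) ?_ ?_ ?_ hg
  · simp
  · intro g _ y hy ih
    rcases hy with hy | hy
    · rw [map_mul]
      have : (g * y)⁻¹ * (x g * x y) = y⁻¹ * (g⁻¹ * x g) * x y := by group
      rw [this]
      exact mul_mem (mul_mem (inv_mem hy) ih) (hB y hy)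
    · exact key g ih y hy y (mem_parabolic_self P y)
  · intro g _ y hy ih
    rcases hy with hy | hy
    · rw [map_mul]
      have : (g * y⁻¹)⁻¹ * (x g * x y⁻¹) = y * (g⁻¹ * x g) * x y⁻¹ := by group
      rw [this]
      exact mul_mem (mul_mem hy ih) (hB _ (inv_mem hy))
    · exact key g ih y hy y⁻¹ (inv_mem (mem_parabolic_self P y))

/-- an automorphism fixing all conjugates of `B` is trivial if `B` has trivial core -/
theorem eq_one {x : MulAut K} (hcore : P.B.normalCore = ⊥) (h : ∀ g : K, g⁻¹ * x g ∈ P.B) : x = 1 := by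
  ext g
  have h1 : g⁻¹ * x g ∈ P.B.normalCore := by
    intro k
    have h2 := h (g * k⁻¹)
    have h3 := h k⁻¹
    rw [map_mul] at h2
    have h4 : k * (g⁻¹ * x g) * k⁻¹ = ((g * k⁻¹)⁻¹ * (x g * x k⁻¹)) * ((k⁻¹)⁻¹ * x k⁻¹)⁻¹ := by group
    rw [h4]
    exact mul_mem h2 (inv_mem h3)
  rw [hcore, mem_bot, inv_mul_eq_one] at h1
  exact h1.symm

/-! ### Solvable parabolic subgroups -/

/-- two generators of a solvable parabolic subgroup commute modulo `B` -/
theorem comm_of_solvable {s t : K} (hs : s ∈ P.S) (ht : t ∈ P.S) (hst : s ≠ t)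
    (hsol : Group.IsSolvable (P.parabolic {s, t})) : s * t * s⁻¹ * t⁻¹ ∈ P.B := by
  by_contra hnc
  set G' := P.parabolic {s, t} with hG'
  have hJ : ({s, t} : Set K) ⊆ P.S := by
    rintro y (rfl | rfl)
    · exact hs
    · exact ht
  set Q : BNPair G' := Cfsg.Agent.LieRecognition.BNCox.sub P {s, t} hJ with hQ
  have hQB : Q.B = P.B.subgroupOf G' := rfl
  have hQS : Q.S = {x : G' | (x : K) ∈ ({s, t} : Set K)} := rfl
  have hsG : s ∈ G' := (le_sup_right : _root_.Subgroup.closure {s, t} ≤ G') (_root_.Subgroup.subset_closure (by simp))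
  have htG : t ∈ G' := (le_sup_right : _root_.Subgroup.closure {s, t} ≤ G') (_root_.Subgroup.subset_closure (by simp))
  set s' : G' := ⟨s, hsG⟩ with hs'
  set t' : G' := ⟨t, htG⟩ with ht'
  have hs'S : s' ∈ Q.S := by rw [hQS]; exact Or.inl rfl
  have ht'S : t' ∈ Q.S := by rw [hQS]; exact Or.inr rfl
  have hst' : s' ≠ t' := fun h => hst (congrArg Subtype.val h)
  have hnc' : s' * t' * s'⁻¹ * t'⁻¹ ∉ Q.B := hnc
  have hnc'' : t' * s' * t'⁻¹ * s'⁻¹ ∉ Q.B := by
    intro h
    apply hnc'
    have e : s' * t' * s'⁻¹ * t'⁻¹ = (t' * s' * t'⁻¹ * s'⁻¹)⁻¹ := by group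
    rw [e]
    exact inv_mem h
  set Z := Q.B.normalCore with hZ
  have hZn : Z.Normal := inferInstance
  have hZB : Z ≤ Q.B := Q.B.normalCore_le
  have hBne : Q.B ≠ ⊤ := by
    intro h
    exact not_mem_B Q hs'S (by rw [h]; exact mem_top _)
  have hZt : Z < ⊤ := lt_of_le_of_ne le_top fun h => hBne (top_le_iff.1 (h ▸ hZB))
  obtain ⟨N', hN'⟩ := Set.Finite.exists_minimal (s := {N : Subgroup G' | N.Normal ∧ Z < N}) (Set.toFinite _)
    ⟨⊤, inferInstance, hZt⟩
  obtain ⟨hNn, hZN⟩ := hN'.prop
  have hmin : ∀ D : Subgroup G', D.Normal → Z ≤ D → D ≤ N' → D ≠ N' → D = Z := by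
    intro D hD h1 h2 h3
    by_contra h4
    exact h3 (le_antisymm h2 (hN'.le_of_le ⟨hD, lt_of_le_of_ne h1 (Ne.symm h4)⟩ h2))
  -- `[N', N'] ≤ Z`
  have hcomm : ⁅N', N'⁆ ≤ Z := by
    have h1 : (⁅N', N'⁆ ⊔ Z).Normal := inferInstance
    have h2 : ⁅N', N'⁆ ⊔ Z ≤ N' := sup_le (Subgroup.commutator_le_left N' N') hZN.le
    by_cases h3 : ⁅N', N'⁆ ⊔ Z = N'
    · exfalso
      -- `N'/Z` is perfect and solvable
      have h4 : Group.IsSolvable ↥(N'.map (QuotientGroup.mk' Z)) :=
        isSolvable_map (H := N') inferInstance _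
      have h5 : ⁅N'.map (QuotientGroup.mk' Z), N'.map (QuotientGroup.mk' Z)⁆ = N'.map (QuotientGroup.mk' Z) := by
        rw [← Subgroup.map_commutator]
        conv_rhs => rw [← h3, Subgroup.map_sup]
        have h6 : Z.map (QuotientGroup.mk' Z) = ⊥ := by
          rw [Subgroup.map_eq_bot_iff, QuotientGroup.ker_mk']
        rw [h6, sup_bot_eq]
      have h6 : N'.map (QuotientGroup.mk' Z) = ⊥ := by
        have h7 : Group.IsPerfect ↥(N'.map (QuotientGroup.mk' Z)) := Subgroup.isPerfect_iff.mpr h5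
        by_contra hne
        have : Nontrivial ↥(N'.map (QuotientGroup.mk' Z)) := (Subgroup.nontrivial_iff_ne_bot _).2 hne
        exact Group.IsPerfect.not_isSolvable _ h4
      rw [Subgroup.map_eq_bot_iff, QuotientGroup.ker_mk'] at h6
      exact absurd h6 (not_le_of_gt hZN)
    · exact le_sup_left.trans (hmin _ h1 le_sup_right h2 h3).le
  have hNB : ¬ N' ≤ Q.B := fun h => absurd (Subgroup.normal_le_normalCore.2 h) (not_le_of_gt hZN)
  have htop : N' ⊔ Q.B = ⊤ := by
    obtain ⟨J, hJS, hJe⟩ := Cfsg.Agent.S0311.result Q (N' ⊔ Q.B) le_sup_right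
    have hmem : ∀ j ∈ J, j = s' ∨ j = t' := by
      intro j hj
      have h1 := hJS hj
      rw [hQS] at h1
      rcases h1 with h1 | h1
      · exact Or.inl (Subtype.ext h1)
      · exact Or.inr (Subtype.ext h1)
    by_cases h1 : s' ∈ J
    · by_cases h2 : t' ∈ J
      · rw [hJe]
        have h3 : J = Q.S := by
          apply Set.Subset.antisymm hJS
          intro y hy
          rw [hQS] at hy
          rcases hy with hy | hy
          · have : y = s' := Subtype.ext hy
            rwa [this]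
          · have : y = t' := Subtype.ext hy
            rwa [this]
        rw [h3]
        exact sup_closure_eq_top Q
      · exact absurd (Cfsg.Agent.S0319.commute_of_normal Q N' hJS hJe h1 ⟨ht'S, h2⟩) hnc'
    · by_cases h2 : t' ∈ J
      · exact absurd (Cfsg.Agent.S0319.commute_of_normal Q N' hJS hJe h2 ⟨hs'S, h1⟩) hnc''
      · exfalso
        have h3 : J = ∅ := by
          rw [Set.eq_empty_iff_forall_notMem]
          intro j hj
          rcases hmem j hj with rfl | rfl
          · exact h1 hj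
          · exact h2 hj
        rw [h3, parabolic_empty] at hJe
        exact hNB (le_sup_left.trans hJe.le)
  set Ps := Q.parabolic {s'} with hPs
  have hBPs : Q.B ≤ Ps := B_le_parabolic Q _
  -- `D = N' ∩ P_s` is normal
  have hDn : (N' ⊓ Ps).Normal := by
    rw [← Subgroup.normalizer_eq_top_iff, eq_top_iff, ← htop]
    have hcj : ∀ g : G', (∀ d ∈ N' ⊓ Ps, g * d * g⁻¹ ∈ N' ⊓ Ps) → g ∈ normalizer ((N' ⊓ Ps : Subgroup G') : Set G') := by
      intro g hg
      rw [Subgroup.mem_normalizer_iff_map_conj_eq]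
      refine Subgroup.eq_of_le_of_card_ge ?_ (le_of_eq (Subgroup.card_map_of_injective
        (K := N' ⊓ Ps) (MulAut.conj g).injective).symm)
      rintro _ ⟨d, hd, rfl⟩
      exact hg d hd
    refine sup_le ?_ ?_
    · intro g hg
      apply hcj
      intro d hd
      have h1 : ⁅g, d⁆ ∈ Z := hcomm (Subgroup.commutator_mem_commutator hg hd.1)
      have h2 : g * d * g⁻¹ = ⁅g, d⁆ * d := by rw [commutatorElement_def]; group
      rw [h2]
      exact mul_mem ⟨hZN.le h1, hBPs (hZB h1)⟩ hd
    · intro g hg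
      apply hcj
      intro d hd
      exact ⟨hNn.conj_mem d hd.1 g, Ps.mul_mem (Ps.mul_mem (hBPs hg) hd.2) (Ps.inv_mem (hBPs hg))⟩
  have hD : N' ⊓ Ps = Z := by
    refine hmin _ hDn (le_inf hZN.le (hZB.trans hBPs)) inf_le_left ?_
    intro h1
    have h2 : N' ≤ Ps := by rw [← h1]; exact inf_le_right
    have h3 : Ps = ⊤ := top_le_iff.1 (by rw [← htop]; exact sup_le h2 hBPs)
    have h4 : Q.parabolic {t'} ≤ Q.parabolic {s'} := by rw [← hPs, h3]; exact le_top
    rw [parabolic_le_iff Q (Set.singleton_subset_iff.2 ht'S) (Set.singleton_subset_iff.2 hs'S)] at h4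
    exact hst' (Set.singleton_subset_singleton.1 h4).symm
  -- `P_s ≤ B`
  have h1 : Ps ≤ Q.B := by
    intro y hy
    have h2 : y ∈ N' ⊔ Q.B := by rw [htop]; exact mem_top _
    obtain ⟨n, hn, b, hb, rfl⟩ := (Subgroup.mem_sup_of_normal_left).1 h2
    have h3 : n ∈ N' ⊓ Ps := ⟨hn, by
      have := mul_mem hy (inv_mem (hBPs hb))
      rwa [mul_inv_cancel_right] at this⟩
    rw [hD] at h3
    exact mul_mem (hZB h3) hb
  exact absurd h1 (not_le_of_gt (B_lt_parabolic Q hs'S))

/-- the product formula -/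
theorem exists_mul {J : Set K} (hJ : J ⊆ P.S) {s : K} (hs : s ∈ P.S)
    (hc : ∀ t ∈ J, s * t * s⁻¹ * t⁻¹ ∈ P.B) {g : K} (hg : g ∈ P.parabolic (insert s J)) :
    ∃ a ∈ P.parabolic {s}, ∃ z ∈ P.parabolic J, g = a * z := by
  have hBs := B_le_parabolic P {s}
  have hBJ := B_le_parabolic P J
  have hss := mem_parabolic_self P s
  have hJm : ∀ t ∈ J, t ∈ P.parabolic J := fun t ht => (le_sup_right : closure J ≤ _) (_root_.Subgroup.subset_closure ht)
  have step : ∀ y ∈ (P.B : Set K) ∪ insert s J, ∀ g : K, (∃ a ∈ P.parabolic {s}, ∃ z ∈ P.parabolic J, g = a * z) →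
      ∃ a ∈ P.parabolic {s}, ∃ z ∈ P.parabolic J, y * g = a * z := by
    rintro y hy g ⟨a, ha, z, hz, rfl⟩
    rcases hy with hy | rfl | hy
    · exact ⟨y * a, mul_mem (hBs hy) ha, z, hz, by group⟩
    · exact ⟨y * a, mul_mem hss ha, z, hz, by group⟩
    · rcases mem_parabolic_singleton P hs ha with ha | ⟨b, hb, b', hb', rfl⟩
      · exact ⟨1, one_mem _, y * a * z, mul_mem (mul_mem (hJm y hy) (hBJ ha)) hz, by group⟩
      · have h1 := P.mul_mem_union y (hJ hy) s (P.subset hs) b hb
        rcases h1 with h1 | h1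
        · obtain ⟨c, hc1, c', hc', h2⟩ := DoubleCoset.mem_doubleCoset.1 h1
          have h3 : y * s * y⁻¹ * s⁻¹ ∈ P.B := by
            have := inv_mem (hc y hy)
            have e : (s * y * s⁻¹ * y⁻¹)⁻¹ = y * s * y⁻¹ * s⁻¹ := by group
            rwa [e] at this
          refine ⟨c * (y * s * y⁻¹ * s⁻¹) * s, mul_mem (mul_mem (hBs hc1) (hBs h3)) hss, y * c' * b' * z,
            mul_mem (mul_mem (mul_mem (hJm y hy) (hBJ hc')) (hBJ hb')) hz, ?_⟩
          have h4 : y * (b * s * b' * z) = (y * b * s) * b' * z := by group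
          rw [h4, h2]
          group
        · obtain ⟨c, hc1, c', hc', h2⟩ := DoubleCoset.mem_doubleCoset.1 h1
          refine ⟨c * s, mul_mem (hBs hc1) hss, c' * b' * z, mul_mem (mul_mem (hBJ hc') (hBJ hb')) hz, ?_⟩
          have h4 : y * (b * s * b' * z) = (y * b * s) * b' * z := by group
          rw [h4, h2]
          group
  have hg' : g ∈ _root_.Subgroup.closure ((P.B : Set K) ∪ insert s J) := by
    rw [Subgroup.closure_union, Subgroup.closure_eq]
    exact hg
  refine Subgroup.closure_induction_left (p := fun g _ => ∃ a ∈ P.parabolic {s}, ∃ z ∈ P.parabolic J, g = a * z)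
    ?_ ?_ ?_ hg'
  · exact ⟨1, one_mem _, 1, one_mem _, by group⟩
  · intro y hy g _ ih
    exact step y hy g ih
  · intro y hy g _ ih
    rcases hy with hy | hy
    · exact step y⁻¹ (Or.inl (inv_mem hy)) g ih
    · have hyS : y ∈ P.S := by
        rcases hy with rfl | hy
        · exact hs
        · exact hJ hy
      have h1 := step y (Or.inr hy) g ih
      have h2 := step (y * y)⁻¹ (Or.inl (inv_mem (P.sq_mem y hyS))) _ h1
      have e : (y * y)⁻¹ * (y * g) = y⁻¹ * g := by group
      rwa [e] at h2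

theorem relIndex_eq_of_mul {A C M : Subgroup K} (h1 : A ≤ M) (h : ∀ m ∈ M, ∃ a ∈ A, ∃ z ∈ C, m = a * z) :
    C.relIndex A = C.relIndex M := by
  unfold Subgroup.relIndex Subgroup.index
  refine Nat.card_congr (Equiv.ofBijective (Quotient.map' (s₁ := QuotientGroup.leftRel (C.subgroupOf A))
    (s₂ := QuotientGroup.leftRel (C.subgroupOf M)) (Subgroup.inclusion h1) ?_) ⟨?_, ?_⟩)
  · intro a b hab
    rw [QuotientGroup.leftRel_apply] at hab ⊢
    exact hab
  · intro a b
    refine Quotient.inductionOn₂' a b fun a b hab => ?_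
    have h3 := Quotient.exact' hab
    rw [QuotientGroup.leftRel_apply] at h3
    exact Quotient.sound' (QuotientGroup.leftRel_apply.2 h3)
  · intro m
    refine Quotient.inductionOn' m fun m => ?_
    obtain ⟨a, ha, z, hz, h3⟩ := h m m.2
    refine ⟨Quotient.mk'' ⟨a, ha⟩, ?_⟩
    refine Quotient.sound' (QuotientGroup.leftRel_apply.2 ?_)
    rw [mem_subgroupOf]
    change a⁻¹ * (m : K) ∈ C
    rw [h3]
    have : a⁻¹ * (a * z) = z := by group
    rwa [this]

/-- the index of `P_J` in `P_{s ∪ J}` -/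
theorem relIndex_insert {J : Set K} (hJ : J ⊆ P.S) {s : K} (hs : s ∈ P.S) (hsJ : s ∉ J)
    (hc : ∀ t ∈ J, s * t * s⁻¹ * t⁻¹ ∈ P.B) :
    (P.parabolic J).relIndex (P.parabolic (insert s J)) = P.B.relIndex (P.parabolic {s}) := by
  have hins : insert s J ⊆ P.S := Set.insert_subset hs hJ
  have h1 : P.parabolic {s} ≤ P.parabolic (insert s J) := parabolic_mono P (by simp)
  have hJle : P.parabolic J ≤ P.parabolic (insert s J) := parabolic_mono P (Set.subset_insert _ _)
  have hinf : P.parabolic {s} ⊓ P.parabolic J = P.B := by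
    rw [Cfsg.Agent.S0315.result P (Set.singleton_subset_iff.2 hs) hJ]
    have : ({s} : Set K) ∩ J = ∅ := Set.singleton_inter_eq_empty.2 hsJ
    rw [this, parabolic_empty]
  rw [← hinf, inf_comm, Subgroup.inf_relIndex_right]
  exact (relIndex_eq_of_mul h1 fun m hm => exists_mul P hJ hs hc hm).symm

/-! ### From an invariant parabolic subgroup to an invariant Borel subgroup -/

theorem iv_conj_mul {m : K} {y : MulAut K} {M : Subgroup K} (hm : m ∈ M) (hy : Iv y M) :
    Iv (MulAut.conj m * y) M := fun a ha => by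
  rw [MulAut.mul_apply, MulAut.conj_apply]
  exact mul_mem (mul_mem hm (hy a ha)) (inv_mem hm)

/-- an automorphism fixing the subgroup `M ≥ B` fixes `B` up to an element of `M` -/
theorem exists_conj_fix {r : ℕ} [Fact r.Prime] (U : Sylow r K) (hU : normalizer ((U : Subgroup K) : Set K) = P.B)
    {M : Subgroup K} (hM : P.B ≤ M) {y : MulAut K} (hy : Iv y M) : ∃ m ∈ M, Iv (MulAut.conj m * y) P.B := by
  have hUB : (U : Subgroup K) ≤ P.B := by rw [← hU]; exact le_normalizer
  have hUM : (U : Subgroup K) ≤ M := hUB.trans hM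
  have hyU : (U : Subgroup K).map y.toMonoidHom ≤ M := by
    rintro _ ⟨u, hu, rfl⟩
    exact hy u (hUM hu)
  -- two Sylow subgroups of `M`
  have hind : ((U : Subgroup K).map y.toMonoidHom).index = (U : Subgroup K).index :=
    Subgroup.index_map_of_bijective y.bijective _
  have hp1 : IsPGroup r ↥((U : Subgroup K).map y.toMonoidHom) := U.isPGroup'.map _
  let U' : Sylow r K := hp1.toSylow (by rw [hind]; exact U.not_dvd_index)
  have hU'c : (U' : Subgroup K) = (U : Subgroup K).map y.toMonoidHom := rfl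
  let S1 : Sylow r M := U.subtype hUM
  let S2 : Sylow r M := U'.subtype hyU
  obtain ⟨m, hm⟩ := MulAction.exists_smul_eq M S2 S1
  refine ⟨m, m.2, ?_⟩
  have h1 : ∀ u ∈ (U : Subgroup K), (m : K) * y u * (m : K)⁻¹ ∈ (U : Subgroup K) := by
    intro u hu
    have h2 : (⟨y u, hyU ⟨u, hu, rfl⟩⟩ : M) ∈ S2 := by
      show _ ∈ (U'.subtype hyU : Subgroup M)
      exact (⟨u, hu, rfl⟩ : y u ∈ (U : Subgroup K).map y.toMonoidHom)
    have h3 : m * ⟨y u, hyU ⟨u, hu, rfl⟩⟩ * m⁻¹ ∈ (m • S2 : Sylow r M) := by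
      show _ ∈ ((m • S2 : Sylow r M) : Subgroup M)
      rw [Sylow.coe_subgroup_smul, Subgroup.mem_pointwise_smul_iff_inv_smul_mem]
      have e : (MulAut.conj m)⁻¹ • (m * ⟨y u, hyU ⟨u, hu, rfl⟩⟩ * m⁻¹) = (⟨y u, hyU ⟨u, hu, rfl⟩⟩ : M) := by
        rw [← map_inv, MulAut.smul_def, MulAut.conj_apply]
        group
      rw [e]
      exact h2
    rw [hm] at h3
    exact h3
  -- the normaliser
  set z : MulAut K := MulAut.conj (m : K) * y with hz
  have hzU : Iv z (U : Subgroup K) := fun u hu => h1 u hu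
  have hzU' := hzU.map_eq
  intro b hb
  rw [← hU, Subgroup.mem_normalizer_iff_map_conj_eq] at hb ⊢
  have h5 : ((U : Subgroup K).map (MulAut.conj b).toMonoidHom).map z.toMonoidHom =
      ((U : Subgroup K).map z.toMonoidHom).map (MulAut.conj (z b)).toMonoidHom := by
    rw [Subgroup.map_map, Subgroup.map_map]
    congr 1
    ext k
    simp only [_root_.MulEquiv.toMonoidHom_eq_coe, _root_.MonoidHom.coe_comp, _root_.MonoidHom.coe_coe, _root_.Function.comp_apply, _root_.MulAut.conj_apply, _root_.map_mul, _root_.map_inv]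
  have hb' : (U : Subgroup K).map (MulAut.conj b).toMonoidHom = (U : Subgroup K) := hb
  rw [hb', hzU'] at h5
  exact h5.symm

theorem conj_mul_pow (m : K) (y : MulAut K) {M : Subgroup K} (hm : m ∈ M) (hy : Iv y M) (n : ℕ) :
    ∃ k ∈ M, (MulAut.conj m * y) ^ n = MulAut.conj k * y ^ n := by
  induction n with
  | zero => exact ⟨1, one_mem _, by simp⟩
  | succ n ih =>
    obtain ⟨k, hk, h⟩ := ih
    have hyn : ∀ n, Iv (y ^ n) M := by
      intro n
      induction n with
      | zero => intro a ha; exact ha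
      | succ n ih =>
        intro a ha
        rw [pow_succ, MulAut.mul_apply]
        exact ih _ (hy a ha)
    refine ⟨k * (y ^ n) m, mul_mem hk (hyn n m hm), ?_⟩
    rw [pow_succ, h, map_mul]
    ext a
    simp only [MulAut.mul_apply, MulAut.conj_apply, map_mul, map_inv, pow_succ, mul_inv_rev, mul_assoc]

/-- **From an invariant proper parabolic subgroup to an invariant Borel subgroup.** -/
theorem exists_borel {r p : ℕ} [Fact r.Prime] [Fact p.Prime] (U : Sylow r K)
    (hU : normalizer ((U : Subgroup K) : Set K) = P.B) {x : MulAut K} (h : RC x) (hxp : x ^ p = 1)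
    (hBs : Group.IsSolvable P.B)
    (hrig : ∀ z : MulAut K, Iv z P.B → (∃ b ∈ P.B, z ^ p = MulAut.conj b) → ∀ s ∈ P.S, Iv z (P.parabolic {s}))
    (hidx : ∀ s ∈ P.S, Group.IsSolvable (P.parabolic {s}) → ¬ p ∣ P.B.relIndex (P.parabolic {s}))
    {J₀ : Set K} (hJ₀ : J₀ ⊆ P.S) (hne : J₀ ≠ P.S) {g₀ : K} (hg₀ : Iv (cx x g₀) (P.parabolic J₀)) :
    ∃ g, Iv (cx x g) P.B := by
  classical
  have hfin : Finite K := inferInstance
  obtain ⟨J, hJ⟩ := Set.exists_min_image {J : Set K | J ⊆ P.S ∧ J ≠ P.S ∧ ∃ g, Iv (cx x g) (P.parabolic J)}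
    Set.ncard (Set.toFinite _) ⟨J₀, hJ₀, hne, g₀, hg₀⟩
  obtain ⟨⟨hJS, hJne, g, hg⟩, hmin⟩ := hJ
  by_cases hJ0 : J = ∅
  · rw [hJ0, parabolic_empty] at hg
    exact ⟨g, hg⟩
  exfalso
  obtain ⟨s, hsJ⟩ := Set.nonempty_iff_ne_empty.2 hJ0
  set y := cx x g with hy
  have hyR : RC y := h.cx g
  have hyp : y ^ p = 1 := by
    have e : y = (MulAut.conj g)⁻¹ * x * ((MulAut.conj g)⁻¹)⁻¹ := by rw [inv_inv]; rfl
    rw [e, conj_pow, hxp, mul_one, mul_inv_cancel]
  set M := P.parabolic J with hM
  have hBM : P.B ≤ M := B_le_parabolic P _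
  have hMt : M ≠ ⊤ := by
    intro hMt
    have h1 : P.parabolic P.S ≤ P.parabolic J := by rw [← hM, hMt]; exact le_top
    rw [parabolic_le_iff P le_rfl hJS] at h1
    exact hJne (Set.Subset.antisymm hJS h1)
  -- `M` is solvable
  have hMsol : Group.IsSolvable M := by
    obtain ⟨L, hLS, hLe⟩ := Cfsg.Agent.S0311.result P (radIn M ⊔ P.B) le_sup_right
    have h1 : Iv y (radIn M ⊔ P.B) := by
      have hradM : (radIn M).map y.toMonoidHom = radIn M := by
        have := radIn_map (y : K ≃* K) (M := M)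
        rw [show (M.map (y : K ≃* K).toMonoidHom) = M from hg.map_eq] at this
        exact this
      have h2 : radIn M ⊔ P.B ≤ (radIn M ⊔ P.B).comap y.toMonoidHom := by
        refine sup_le ?_ ?_
        · intro a ha
          rw [mem_comap]
          refine mem_sup_left ?_
          rw [← hradM]
          exact ⟨a, ha, rfl⟩
        · intro b hb
          rw [mem_comap]
          have h3 := hyR M hMt hg b (hBM hb)
          have h4 : y b = b * (b⁻¹ * y b) := by group
          show y b ∈ _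
          rw [h4]
          exact mul_mem (mem_sup_right hb) (mem_sup_left h3)
      exact h2
    have hLM : radIn M ⊔ P.B ≤ M := sup_le (radIn_le M) hBM
    have hLJ : L ⊆ J := by
      rw [← parabolic_le_iff P hLS hJS, ← hLe]
      exact hLM
    have hLne : L ≠ P.S := by
      rintro rfl
      exact hJne (Set.Subset.antisymm hJS hLJ)
    have h2 := hmin L ⟨hLS, hLne, g, by rw [← hLe]; exact h1⟩
    have h3 : L = J := Set.eq_of_subset_of_ncard_le hLJ h2 (Set.toFinite _)
    have h4 := isSolvable_sup (radIn_le M) hBM (fun g hg a ha => radIn_conj_mem hg ha) (radIn_solvable M) hBs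
    rw [hLe, h3] at h4
    exact h4
  have hsS : s ∈ P.S := hJS hsJ
  set J' := J \ {s} with hJ'
  have hJ'S : J' ⊆ P.S := Set.sdiff_subset.trans hJS
  have hsJ' : s ∉ J' := fun h => h.2 rfl
  have hins : insert s J' = J := by
    rw [hJ', Set.insert_sdiff_singleton, Set.insert_eq_of_mem hsJ]
  have hcomm : ∀ t ∈ J', s * t * s⁻¹ * t⁻¹ ∈ P.B := by
    intro t ht
    refine comm_of_solvable P hsS (hJ'S ht) (fun h => hsJ' (h ▸ ht)) ?_
    refine isSolvable_of_le (parabolic_mono P ?_) hMsol
    rintro y (rfl | rfl)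
    · exact hsJ
    · exact ht.1
  set P' := P.parabolic J' with hP'
  have hP'M : P' ≤ M := parabolic_mono P Set.sdiff_subset
  have hnorm : normalizer (P' : Set K) = P' := Cfsg.Agent.S0312.result P hJ'S
  have hidx' : P'.relIndex M = P.B.relIndex (P.parabolic {s}) := by
    have := relIndex_insert P hJ'S hsS hsJ' hcomm
    rwa [hins] at this
  have hnd : ¬ p ∣ P'.relIndex M := by
    rw [hidx']
    exact hidx s hsS (isSolvable_of_le (parabolic_mono P (Set.singleton_subset_iff.2 hsJ)) hMsol)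
  -- `y` maps `P'` to a conjugate
  obtain ⟨m, hm, hmB⟩ := exists_conj_fix P U hU hBM hg
  set z := MulAut.conj m * y with hz
  have hzp : ∃ b ∈ P.B, z ^ p = MulAut.conj b := by
    obtain ⟨k, hk, hk'⟩ := conj_mul_pow m y hm hg p
    rw [hyp, mul_one] at hk'
    refine ⟨k, ?_, hk'⟩
    have h1 : ∀ n, Iv (z ^ n) P.B := by
      intro n
      induction n with
      | zero => intro a ha; exact ha
      | succ n ih =>
        intro a ha
        rw [pow_succ, MulAut.mul_apply]
        exact ih _ (hmB a ha)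
    have h2 : Iv (MulAut.conj k) P.B := by rw [← hk']; exact h1 p
    have h3 : k ∈ normalizer (P.B : Set K) := by
      rw [Subgroup.mem_normalizer_iff_map_conj_eq]
      exact h2.map_eq
    have h4 : normalizer (P.B : Set K) = P.B := by
      have := Cfsg.Agent.S0312.result P (J := ∅) (Set.empty_subset _)
      rwa [parabolic_empty] at this
    rwa [h4] at h3
  have hzs := hrig z hmB hzp
  have hzP' : Iv z P' := by
    have h1 : P' ≤ P'.comap z.toMonoidHom := by
      refine sup_le ?_ ?_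
      · intro b hb
        exact B_le_parabolic P _ (hmB b hb)
      · rw [closure_le]
        intro t ht
        exact parabolic_mono P (Set.singleton_subset_iff.2 ht) (hzs t (hJ'S ht) t (mem_parabolic_self P t))
    exact h1
  -- the set of conjugates
  let X : Set (Subgroup K) := {A | ∃ k ∈ M, A = P'.map (MulAut.conj k).toMonoidHom}
  have hyP' : ∃ k ∈ M, P'.map y.toMonoidHom = P'.map (MulAut.conj k).toMonoidHom := by
    refine ⟨m⁻¹, inv_mem hm, ?_⟩
    have h1 : y = MulAut.conj m⁻¹ * z := by rw [hz, ← mul_assoc, ← map_mul, inv_mul_cancel, map_one, one_mul]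
    conv_lhs => rw [h1]
    have h2 : (MulAut.conj m⁻¹ * z).toMonoidHom = (MulAut.conj m⁻¹).toMonoidHom.comp z.toMonoidHom := rfl
    rw [h2, ← Subgroup.map_map, hzP'.map_eq]
  have hcomp : ∀ (f : MulAut K) (k : K) (A : Subgroup K), (A.map (MulAut.conj k).toMonoidHom).map f.toMonoidHom =
      (A.map f.toMonoidHom).map (MulAut.conj (f k)).toMonoidHom := by
    intro f k A
    rw [Subgroup.map_map, Subgroup.map_map]
    congr 1
    ext a
    simp only [_root_.MulEquiv.toMonoidHom_eq_coe, _root_.MonoidHom.coe_comp, _root_.MonoidHom.coe_coe, _root_.Function.comp_apply, _root_.MulAut.conj_apply, _root_.map_mul, _root_.map_inv]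
  have hXy : ∀ A ∈ X, A.map y.toMonoidHom ∈ X := by
    rintro _ ⟨k, hk, rfl⟩
    obtain ⟨l, hl, h1⟩ := hyP'
    refine ⟨y k * l, mul_mem (hg k hk) hl, ?_⟩
    rw [hcomp, h1, Subgroup.map_map]
    congr 1
    ext a
    simp only [mul_assoc, _root_.MulEquiv.toMonoidHom_eq_coe, _root_.MonoidHom.coe_comp, _root_.MonoidHom.coe_coe, _root_.Function.comp_apply, _root_.MulAut.conj_apply, _root_.map_mul, _root_.MulAut.mul_apply]
  let π : X → X := fun A => ⟨A.1.map y.toMonoidHom, hXy A.1 A.2⟩
  have hπ : Function.Injective π := by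
    intro A B hAB
    have h1 : A.1.map y.toMonoidHom = B.1.map y.toMonoidHom := congrArg Subtype.val hAB
    exact Subtype.ext (Subgroup.map_injective y.injective h1)
  have hXfin : Finite X := inferInstance
  let σ : Equiv.Perm X := Equiv.ofBijective π (Finite.injective_iff_bijective.1 hπ)
  have hσpow : ∀ n (A : X), (((σ ^ n) A : X) : Subgroup K) = (A : Subgroup K).map (y ^ n).toMonoidHom := by
    intro n
    induction n with
    | zero =>
      intro A
      rw [pow_zero, pow_zero]
      exact (Subgroup.map_id _).symm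
    | succ n ih =>
      intro A
      rw [pow_succ', Equiv.Perm.mul_apply, pow_succ']
      show (((σ ^ n) A : X) : Subgroup K).map y.toMonoidHom = _
      rw [ih, Subgroup.map_map]
      rfl
  have hσp : σ ^ p ^ 1 = 1 := by
    rw [pow_one]
    apply Equiv.ext
    intro A
    apply Subtype.ext
    rw [hσpow, hyp]
    exact Subgroup.map_id _
  have hcardX : Nat.card X = P'.relIndex M := by
    unfold Subgroup.relIndex Subgroup.index
    symm
    refine Nat.card_congr (Equiv.ofBijective (fun q : M ⧸ P'.subgroupOf M => Quotient.liftOn' q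
      (fun m : M => (⟨P'.map (MulAut.conj (m : K)).toMonoidHom, m, m.2, rfl⟩ : X)) ?_) ⟨?_, ?_⟩)
    · intro a b hab
      rw [QuotientGroup.leftRel_apply, mem_subgroupOf] at hab
      apply Subtype.ext
      show P'.map (MulAut.conj (a : K)).toMonoidHom = P'.map (MulAut.conj (b : K)).toMonoidHom
      have h1 : P'.map (MulAut.conj (((a⁻¹ * b : M) : K))).toMonoidHom = P' :=
        Subgroup.mem_normalizer_iff_map_conj_eq.1 (le_normalizer hab)
      conv_lhs => rw [← h1]
      rw [Subgroup.map_map]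
      congr 1
      ext k
      simp [mul_assoc]
    · intro q q'
      refine Quotient.inductionOn₂' q q' fun a b hab => ?_
      have h1 : P'.map (MulAut.conj (a : K)).toMonoidHom = P'.map (MulAut.conj (b : K)).toMonoidHom :=
        congrArg Subtype.val hab
      refine Quotient.sound' (QuotientGroup.leftRel_apply.2 ?_)
      rw [mem_subgroupOf, ← hnorm, Subgroup.mem_normalizer_iff_map_conj_eq]
      have h2 : (P'.map (MulAut.conj (b : K)).toMonoidHom).map (MulAut.conj ((a : K)⁻¹)).toMonoidHom =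
          P'.map (MulAut.conj (((a⁻¹ * b : M) : K))).toMonoidHom := by
        rw [Subgroup.map_map]
        congr 1
        ext k
        simp only [mul_assoc, _root_.map_inv, _root_.MulEquiv.toMonoidHom_eq_coe, _root_.MonoidHom.coe_comp, _root_.MonoidHom.coe_coe, _root_.MulAut.coe_inv, _root_.Function.comp_apply, _root_.MulAut.conj_apply, _root_.MulAut.conj_symm_apply, _root_.Subgroup.coe_mul, _root_.InvMemClass.coe_inv, _root_.map_mul, _root_.MulAut.mul_apply, _root_.MulAut.inv_apply]
      have h3 : P'.map (MulAut.conj (((a⁻¹ * b : M) : K))).toMonoidHom = P' := by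
        rw [← h2, ← h1, Subgroup.map_map]
        conv_rhs => rw [← Subgroup.map_id P']
        congr 1
        ext k
        simp only [mul_assoc, _root_.map_inv, _root_.MulEquiv.toMonoidHom_eq_coe, _root_.MonoidHom.coe_comp, _root_.MonoidHom.coe_coe, _root_.MulAut.coe_inv, _root_.Function.comp_apply, _root_.MulAut.conj_apply, _root_.MulAut.conj_symm_apply, _root_.inv_mul_cancel_left, _root_.inv_mul_cancel, _root_.mul_one, _root_.MonoidHom.id_apply]
      exact h3
    · rintro ⟨A, k, hk, rfl⟩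
      exact ⟨Quotient.mk'' ⟨k, hk⟩, rfl⟩
  have : Fintype X := Fintype.ofFinite X
  obtain ⟨⟨A, k, hk, rfl⟩, hA⟩ := Equiv.Perm.exists_fixed_point_of_prime (p := p) (n := 1)
    (by rw [← Nat.card_eq_fintype_card, hcardX]; exact hnd) hσp
  have hA' : (P'.map (MulAut.conj k).toMonoidHom).map y.toMonoidHom = P'.map (MulAut.conj k).toMonoidHom :=
    congrArg Subtype.val hA
  have hfix : Iv (cx x (g * k)) P' := by
    rw [← cx_cx]
    intro a ha
    have h1 : y (k * a * k⁻¹) ∈ P'.map (MulAut.conj k).toMonoidHom := by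
      rw [← hA']
      exact ⟨k * a * k⁻¹, ⟨a, ha, rfl⟩, rfl⟩
    obtain ⟨c, hc, h2⟩ := h1
    rw [cx_apply]
    have h3 : k * c * k⁻¹ = y (k * a * k⁻¹) := h2
    rw [← hy, ← h3]
    have : k⁻¹ * (k * c * k⁻¹) * k = c := by group
    rwa [this]
  have h1 := hmin J' ⟨hJ'S, fun h => hJne (Set.Subset.antisymm hJS (h ▸ Set.sdiff_subset)), g * k, hfix⟩
  have h2 : J'.ncard < J.ncard := Set.ncard_sdiff_singleton_lt_of_mem hsJ (Set.toFinite _)
  omega

end Cfsg.Agent.H459.Gallery
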